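import Cfsg.Agent.H30.GraphFi24A
import Cfsg.Agent.H33.IM

/-!
# S4844: `Fi₂₄'` has an irreducible character of degree divisible by `7 ^ 2` (helper961)
-/

set_option autoImplicit false

namespace Cfsg.Agent.H961.Sq

open Cfsg

universe u

theorem fi24_seven_model : H33.IM (7 ^ 2) Spor.Fi24' := by
  obtain ⟨⟨χ, hχ⟩, -⟩ := Cfsg.Agent.H30.GraphFi24.exists_deg
  exact ⟨χ, by rw [hχ]; norm_num⟩

/-- **`(Fi₂₄', 7)`** -/
theorem fi24_seven {S : Type u} [Group S] (h : Spor.IsoFi24' S) : H33.IM (7 ^ 2) S := by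
  obtain ⟨e⟩ := h
  exact fi24_seven_model.of_equiv e

end Cfsg.Agent.H961.Sq
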